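import Groth.Agent.Curves.K722.AdjBasis
import Groth.Agent.CurvSt.K310.BasisCover
import Groth.Agent.Curves.K322.CurveIso
import Groth.Agent.Picfga.HilbPull

/-!
# The map to the projective line given by an element of the function field

`exists_P1_map`: let `X` be an integral proper scheme over a field `F` all of whose local rings are
valuation rings, whose function field `L` is a function field of one variable over `F`.  Every
`t ∈ L` transcendental over `F` gives a morphism `X ⟶ P¹` over `F` which is finite locally free of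
degree `[L : F(t)]`.
-/

set_option autoImplicit false
set_option linter.style.haveILetI false
set_option linter.unusedSectionVars false

universe u

open CategoryTheory CategoryTheory.Limits AlgebraicGeometry Polynomial

namespace K722.P1Map

open Groth.Agent Groth.Agent.Ega2.NormChart K310

/-- A field is a valuation ring. -/
theorem valuationRing_of_isField {R : Type*} [CommRing R] [IsDomain R] (h : IsField R) : ValuationRing R := by
  refine { cond' := fun a b => ?_ }
  by_cases ha : a = 0
  · exact ⟨0, Or.inr (by rw [ha, mul_zero])⟩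
  · obtain ⟨c, hc⟩ := h.mul_inv_cancel ha
    exact ⟨c * b, Or.inl (by rw [← mul_assoc, hc, one_mul])⟩

/-- Sections pulled back along a morphism from a local scheme which factors through a stalk. -/
theorem appLE_of_fromSpecStalk {Y : Scheme.{u}} (y : Y) {L : CommRingCat.{u}} (φ : Y.presheaf.stalk y ⟶ L)
    (g : Spec L ⟶ Y) (hg : Spec.map φ ≫ Y.fromSpecStalk y = g) (W : Y.Opens) (hy : y ∈ W)
    (hW : ⊤ ≤ g ⁻¹ᵁ W) :
    g.appLE W ⊤ hW ≫ (Scheme.ΓSpecIso L).hom = Y.presheaf.germ W y hy ≫ φ := by
  subst hg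
  rw [Scheme.Hom.comp_appLE, Scheme.fromSpecStalk_app hy]
  simp only [Category.assoc, Scheme.Hom.map_appLE_assoc]
  have h3 : (Spec.map φ).appLE ⊤ ⊤ le_top = (Spec.map φ).appTop := (Scheme.Hom.app_eq_appLE _).symm
  rw [h3, Scheme.ΓSpecIso_naturality, Iso.inv_hom_id_assoc]

/-- A dominant morphism from the spectrum of a field hits the generic point. -/
theorem eq_genericPoint_of_isDominant {L : Type u} [Field L] {Y : Scheme.{u}} [IsIntegral Y]
    (g : Spec (CommRingCat.of L) ⟶ Y) [IsDominant g] :
    g (IsLocalRing.closedPoint L) = genericPoint Y := by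
  refine ((genericPoint_spec Y).eq ?_).symm
  have h1 := g.denseRange
  have h2 : Set.range g = {g (IsLocalRing.closedPoint L)} := by
    ext z
    constructor
    · rintro ⟨x, rfl⟩
      rw [Subsingleton.elim x (IsLocalRing.closedPoint L)]
      exact rfl
    · rintro rfl
      exact ⟨_, rfl⟩
  rw [DenseRange, h2, dense_iff_closure_eq] at h1
  exact h1

/-- The local rings of a scheme at the points of an affine open whose ring of sections is a
Dedekind domain are valuation rings. -/
theorem valuationRing_stalk {X : Scheme.{u}} {W : X.Opens} (hW : IsAffineOpen W)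
    [IsDedekindDomain Γ(X, W)] (x : X) (hx : x ∈ W) :
    ∃ _ : IsDomain (X.presheaf.stalk x), ValuationRing (X.presheaf.stalk x) := by
  letI : Algebra Γ(X, W) (X.presheaf.stalk x) := TopCat.Presheaf.algebra_section_stalk X.presheaf ⟨x, hx⟩
  haveI hloc : IsLocalization.AtPrime (X.presheaf.stalk x) (hW.primeIdealOf ⟨x, hx⟩).asIdeal :=
    hW.isLocalization_stalk ⟨x, hx⟩
  have hle : (hW.primeIdealOf ⟨x, hx⟩).asIdeal.primeCompl ≤ nonZeroDivisors Γ(X, W) :=
    Ideal.primeCompl_le_nonZeroDivisors _
  haveI hdom : IsDomain (X.presheaf.stalk x) := IsLocalization.isDomain_of_le_nonZeroDivisors _ hle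
  refine ⟨hdom, ?_⟩
  by_cases hne : (hW.primeIdealOf ⟨x, hx⟩).asIdeal = ⊥
  · haveI : IsFractionRing Γ(X, W) (X.presheaf.stalk x) := by
      have h1 : (hW.primeIdealOf ⟨x, hx⟩).asIdeal.primeCompl = nonZeroDivisors Γ(X, W) := by
        ext a
        rw [mem_nonZeroDivisors_iff_ne_zero]
        change a ∉ (hW.primeIdealOf ⟨x, hx⟩).asIdeal ↔ _
        rw [hne, Ideal.mem_bot]
      have h2 : IsLocalization (hW.primeIdealOf ⟨x, hx⟩).asIdeal.primeCompl (X.presheaf.stalk x) := hloc
      rw [h1] at h2
      exact h2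
    have hfield : IsField (X.presheaf.stalk x) := by
      letI := IsFractionRing.toField Γ(X, W) (K := X.presheaf.stalk x)
      exact Field.toIsField _
    exact valuationRing_of_isField hfield
  · haveI := IsLocalization.AtPrime.isDiscreteValuationRing_of_dedekind_domain Γ(X, W) hne (X.presheaf.stalk x)
    infer_instance

section Norm

variable {F : Type u} [Field F] {L : Type u} [Field L] [Algebra F L]

/-- The projective line and its normalization in `L`. -/
theorem exists_data [Algebra.EssFiniteType F L] (htr : Algebra.trdeg F L = 1) (t : L)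
    (ht : Transcendental F t) (n : ℕ) (hn : Module.finrank (IntermediateField.adjoin F {t}) L = n) :
    ∃ (Y : Scheme.{u}) (_ : IsIntegral Y) (ν : Y ⟶ CohB1.ProjSpace 1 F)
      (g : Spec (CommRingCat.of L) ⟶ Y) (φ : Y.functionField ⟶ CommRingCat.of L),
      Mor2.IsFinLocFreeOfDeg n ν ∧ IsProper (ν ≫ CohB1.ProjSpace.toSpec 1 F) ∧
      (∀ y : Y, ValuationRing (Y.presheaf.stalk y)) ∧
      g ≫ ν ≫ CohB1.ProjSpace.toSpec 1 F = Spec.map (CommRingCat.ofHom (algebraMap F L)) ∧
      Spec.map φ ≫ Y.fromSpecStalk (genericPoint Y) = g ∧ IsIso φ := by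
  have ht0 : t ≠ 0 := by
    rintro rfl
    exact ht isAlgebraic_zero
  have hti : Transcendental F t⁻¹ := fun h => ht (by simpa using h.inv)
  obtain ⟨f, hf, U0, U1, hU0, hU1, hU01, hcov, hf0, hf1, hf01, hr0, hr1, hr01⟩ :=
    LineTwoCharts.exists_P1 F L t ht0
  haveI := LineTwoCharts.isProper_toSpec F
  haveI : QuasiCompact (f ≫ CohB1.ProjSpace.toSpec 1 F) := by rw [hf]; infer_instance
  haveI : QuasiSeparated (f ≫ CohB1.ProjSpace.toSpec 1 F) := by rw [hf]; infer_instance
  haveI : QuasiCompact f := .of_comp f (CohB1.ProjSpace.toSpec 1 F)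
  haveI : QuasiSeparated f := .of_comp f (CohB1.ProjSpace.toSpec 1 F)
  have hc0 := chart (k := F) f U0 hf0 hU0 t ht htr hr0
  have hc1 := chart (k := F) f U1 hf1 hU1 t⁻¹ hti htr hr1
  haveI : AlgebraicGeometry.IsIntegral (CohB1.ProjSpace 1 F) := K711.ProjDim.isIntegral_projSpace 1 F
  have hdim : topologicalKrullDim (CohB1.ProjSpace 1 F) = 1 := by
    rw [K711.ProjDim.topologicalKrullDim_projSpace 1 F]; rfl
  have hinj0 : Function.Injective (toK f U0 hf0) :=
    CoverDegree.toK_injective f hdim hU0 hf0 (by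
      have h : (toK f U0 hf0).range = (Algebra.adjoin F {t}).toSubring := hr0
      rw [h]; exact BasisCover.not_isField_adjoin ht)
  have hinj1 : Function.Injective (toK f U1 hf1) :=
    CoverDegree.toK_injective f hdim hU1 hf1 (by
      have h : (toK f U1 hf1).range = (Algebra.adjoin F {t⁻¹}).toSubring := hr1
      rw [h]; exact BasisCover.not_isField_adjoin hti)
  obtain ⟨u0, hu0, hi0⟩ := AdjBasis.exists_basis htr t ht n hn
  obtain ⟨u1, hu1, hi1⟩ := AdjBasis.exists_basis htr t⁻¹ hti n (by rw [AdjBasis.adjoin_inv, hn])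
  have hb0 : ∃ v, Picfga.HilbChartAlg.RBas (d := n) (f.fromNormalization.app U0).hom v := by
    refine CoverDegree.exists_rBas f hU0 hf0 hinj0 u0 (fun x => ?_) (fun c hc hs => ?_)
    · have h : (toK f U0 hf0).range = (Algebra.adjoin F {t}).toSubring := hr0
      rw [NormGenus.mem_range_iff f hf0 hU0 _ hr0, h]
      exact hu0 x
    · exact hi0 c (fun i => by rw [← hr0]; exact hc i) hs
  have hb1 : ∃ v, Picfga.HilbChartAlg.RBas (d := n) (f.fromNormalization.app U1).hom v := by
    refine CoverDegree.exists_rBas f hU1 hf1 hinj1 u1 (fun x => ?_) (fun c hc hs => ?_)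
    · have h : (toK f U1 hf1).range = (Algebra.adjoin F {t⁻¹}).toSubring := hr1
      rw [NormGenus.mem_range_iff f hf1 hU1 _ hr1, h]
      exact hu1 x
    · exact hi1 c (fun i => by rw [← hr1]; exact hc i) hs
  have hlf : Mor2.IsFinLocFreeOfDeg n f.fromNormalization := by
    refine CoverDegree.isFinLocFreeOfDeg_of_cover f.fromNormalization
      (fun i : ULift.{u} Bool => if i.down then U0 else U1) ?_ ?_ n ?_
    · rintro ⟨b⟩
      cases b
      · exact hU1
      · exact hU0
    · intro y
      have : y ∈ U0 ⊔ U1 := by rw [hcov]; trivial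
      rcases this with h | h
      · exact ⟨⟨true⟩, h⟩
      · exact ⟨⟨false⟩, h⟩
    · rintro ⟨b⟩
      cases b
      · exact hb1
      · exact hb0
  haveI hfin : IsFinite f.fromNormalization := hlf.1.1
  have hproper : IsProper (f.fromNormalization ≫ CohB1.ProjSpace.toSpec 1 F) := inferInstance
  have hW : ∀ x : f.normalization, x ∈ f.fromNormalization ⁻¹ᵁ U0 ∨ x ∈ f.fromNormalization ⁻¹ᵁ U1 := by
    intro x
    have : f.fromNormalization x ∈ U0 ⊔ U1 := by rw [hcov]; trivial
    simpa using this
  have hW0 : IsAffineOpen (f.fromNormalization ⁻¹ᵁ U0) := hU0.preimage _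
  have hW1 : IsAffineOpen (f.fromNormalization ⁻¹ᵁ U1) := hU1.preimage _
  have hval : ∀ y : f.normalization, ValuationRing (f.normalization.presheaf.stalk y) := by
    intro x
    rcases hW x with hx | hx
    · haveI := hc0.2.1
      exact (valuationRing_stalk hW0 x hx).2
    · haveI := hc1.2.1
      exact (valuationRing_stalk hW1 x hx).2
  -- the generic point
  have hpt : f.toNormalization (IsLocalRing.closedPoint L) ∈ f.fromNormalization ⁻¹ᵁ U0 := by
    change f.fromNormalization (f.toNormalization (IsLocalRing.closedPoint L)) ∈ U0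
    rw [← Scheme.Hom.comp_apply, Scheme.Hom.toNormalization_fromNormalization]
    change IsLocalRing.closedPoint L ∈ f ⁻¹ᵁ U0
    rw [hf0]
    trivial
  have hgen : f.toNormalization (IsLocalRing.closedPoint L) = genericPoint f.normalization :=
    eq_genericPoint_of_isDominant f.toNormalization
  obtain ⟨φ, hφ⟩ := K322.CurveIso.exists_functionField_factor f.toNormalization hgen
  refine ⟨f.normalization, inferInstance, f.fromNormalization, f.toNormalization, φ, hlf, hproper, hval, ?_, hφ, ?_⟩
  · rw [Scheme.Hom.toNormalization_fromNormalization_assoc, hf]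
  · have hgpt : genericPoint f.normalization ∈ f.fromNormalization ⁻¹ᵁ U0 := by
      rw [← hgen]; exact hpt
    have hkey : ∀ a : Γ(f.normalization, f.fromNormalization ⁻¹ᵁ U0), normToK f U0 hf0 a =
        φ.hom ((f.normalization.presheaf.germ (f.fromNormalization ⁻¹ᵁ U0) _ hgpt).hom a) := fun a =>
      congrArg (fun ψ => ψ.hom a) (appLE_of_fromSpecStalk _ φ f.toNormalization hφ
        (f.fromNormalization ⁻¹ᵁ U0) hgpt
        (by rw [← Scheme.Hom.comp_preimage, Scheme.Hom.toNormalization_fromNormalization, hf0]))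
    have hsurj : Function.Surjective φ.hom := by
      intro z
      letI : Algebra Γ(f.normalization, f.fromNormalization ⁻¹ᵁ U0) L := (normToK f U0 hf0).toAlgebra
      haveI : IsFractionRing Γ(f.normalization, f.fromNormalization ⁻¹ᵁ U0) L := hc0.2.2.2
      haveI : IsDomain Γ(f.normalization, f.fromNormalization ⁻¹ᵁ U0) := hc0.2.1.toIsDomain
      obtain ⟨a, b, hb, rfl⟩ := IsFractionRing.div_surjective
        (A := Γ(f.normalization, f.fromNormalization ⁻¹ᵁ U0)) z
      refine ⟨(f.normalization.presheaf.germ (f.fromNormalization ⁻¹ᵁ U0) _ hgpt).hom a /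
        (f.normalization.presheaf.germ (f.fromNormalization ⁻¹ᵁ U0) _ hgpt).hom b, ?_⟩
      rw [map_div₀]
      exact congrArg₂ (· / ·) (hkey a).symm (hkey b).symm
    have hbij : Function.Bijective φ.hom := ⟨φ.hom.injective, hsurj⟩
    exact (ConcreteCategory.isIso_iff_bijective φ).mpr hbij

end Norm

/-- **The map to the projective line given by a function.** -/
theorem exists_P1_map (F : Type u) [Field F] {X : Scheme.{u}} (p : X ⟶ Spec (CommRingCat.of F)) [IsIntegral X]
    [IsProper p] (hv : ∀ x : X, ValuationRing (X.presheaf.stalk x)) (L : Type u) [Field L] [Algebra F L]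
    [Algebra.EssFiniteType F L] (htr : Algebra.trdeg F L = 1)
    (e : Spec X.functionField ≅ Spec (CommRingCat.of L))
    (he : e.hom ≫ Spec.map (CommRingCat.ofHom (algebraMap F L)) = X.fromSpecStalk (genericPoint X) ≫ p)
    (t : L) (ht : Transcendental F t) (n : ℕ) (hn : Module.finrank (IntermediateField.adjoin F {t}) L = n) :
    ∃ ρ : X ⟶ CohB1.ProjSpace 1 F, ρ ≫ CohB1.ProjSpace.toSpec 1 F = p ∧ Mor2.IsFinLocFreeOfDeg n ρ := by
  obtain ⟨Y, hY, ν, g, φ, hν, hpr, hval, hg, hφ, hφi⟩ := exists_data htr t ht n hn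
  obtain ⟨i, hi, -⟩ := K322.CurveIso.exists_iso_of_functionField p (ν ≫ CohB1.ProjSpace.toSpec 1 F) hv hval
    (e ≪≫ asIso (Spec.map φ)) (by
      rw [Iso.trans_hom, asIso_hom, Category.assoc, reassoc_of% hφ, hg, he])
  exact ⟨i.hom ≫ ν, by rw [Category.assoc, hi], Picfga.HilbPull.isFinLocFreeOfDeg_comp_iso hν⟩

end K722.P1Map
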