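import Groth.Agent.Ega2.NormChart

/-!
# Bases of the integral closure of `F[t]` in a function field of one variable

`exists_basis`: if `L` is a function field of one variable over `F` and `t` is transcendental, the
elements of `L` integral over `F[t]` form a free `F[t]`-module of rank `[L : F(t)]`.
-/

set_option autoImplicit false
set_option linter.style.haveILetI false
set_option linter.unusedSectionVars false

open Polynomial

namespace K722.AdjBasis

open Groth.Agent.Ega2

variable {F L : Type*} [Field F] [Field L] [Algebra F L]

/-- `F(t) = F(t⁻¹)`. -/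
theorem adjoin_inv (t : L) : IntermediateField.adjoin F {t⁻¹} = IntermediateField.adjoin F {t} := by
  apply le_antisymm
  · rw [IntermediateField.adjoin_simple_le_iff]
    exact inv_mem (IntermediateField.mem_adjoin_simple_self F t)
  · rw [IntermediateField.adjoin_simple_le_iff]
    have h : (t⁻¹)⁻¹ ∈ IntermediateField.adjoin F {t⁻¹} :=
      inv_mem (IntermediateField.mem_adjoin_simple_self F t⁻¹)
    rwa [inv_inv] at h

/-- `L` is algebraic over `F[X]`, with `X` acting through a transcendental element. -/
theorem isAlgebraic_polynomial (htr : Algebra.trdeg F L = 1) (t : L) (ht : Transcendental F t) :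
    letI : Algebra F[X] L := (aeval t).toAlgebra
    Algebra.IsAlgebraic F[X] L := by
  letI : Algebra F[X] L := (aeval t).toAlgebra
  have hinj : Function.Injective (algebraMap F[X] L) := transcendental_iff_injective.mp ht
  haveI : FaithfulSMul F[X] L := (faithfulSMul_iff_algebraMap_injective _ _).mpr hinj
  have h := PolyIntClosure.isAlgebraic_adjoin_of_trdeg_eq_one htr t ht
  refine ⟨fun x => ?_⟩
  obtain ⟨p, hp, hpx⟩ := h.isAlgebraic x
  have hsurj : ∀ y : Algebra.adjoin F {t}, ∃ q : F[X], algebraMap F[X] L q = y := by
    rintro ⟨y, hy⟩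
    rw [Algebra.adjoin_singleton_eq_range_aeval] at hy
    exact hy
  have hl : p.map (algebraMap (Algebra.adjoin F {t}) L) ∈ Polynomial.lifts (algebraMap F[X] L) := by
    rw [Polynomial.lifts_iff_coeff_lifts]
    intro n
    rw [Polynomial.coeff_map]
    exact hsurj _
  obtain ⟨q, hq⟩ := (Polynomial.mem_lifts _).mp hl
  refine ⟨q, ?_, ?_⟩
  · rintro rfl
    rw [Polynomial.map_zero] at hq
    exact hp ((Polynomial.map_eq_zero_iff (FaithfulSMul.algebraMap_injective _ _)).mp hq.symm)
  · rw [← Polynomial.eval_map_algebraMap, hq, Polynomial.eval_map_algebraMap, hpx]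

/-- The rank of the integral closure of `F[X]` is `[L : F(t)]`. -/
theorem finrank_integralClosure [Algebra.EssFiniteType F L] (htr : Algebra.trdeg F L = 1) (t : L)
    (ht : Transcendental F t) :
    letI : Algebra F[X] L := (aeval t).toAlgebra
    Module.finrank F[X] (integralClosure F[X] L) =
      Module.finrank (IntermediateField.adjoin F {t}) L := by
  letI : Algebra F[X] L := (aeval t).toAlgebra
  haveI : IsScalarTower F F[X] L := IsScalarTower.of_algebraMap_eq fun x => by
    rw [RingHom.algebraMap_toAlgebra]
    simp
  have hinj : Function.Injective (algebraMap F[X] L) := transcendental_iff_injective.mp ht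
  haveI : FaithfulSMul F[X] L := (faithfulSMul_iff_algebraMap_injective _ _).mpr hinj
  haveI : Algebra.IsAlgebraic F[X] L := isAlgebraic_polynomial htr t ht
  haveI := PolyIntClosure.isFractionRing_integralClosure_polynomial F L
  let K' := IntermediateField.adjoin F {t}
  letI : Algebra F[X] K' := (aeval (IntermediateField.AdjoinSimple.gen F t)).toAlgebra
  have hval : ∀ p : F[X], ((algebraMap F[X] K' p : K') : L) = algebraMap F[X] L p := by
    intro p
    change ((aeval (IntermediateField.AdjoinSimple.gen F t) p : K') : L) = aeval t p
    have := aeval_algHom_apply (IntermediateField.val K') (IntermediateField.AdjoinSimple.gen F t) p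
    exact this.symm
  haveI : IsScalarTower F[X] K' L := IsScalarTower.of_algebraMap_eq fun p => (hval p).symm
  haveI : FaithfulSMul F[X] K' := (faithfulSMul_iff_algebraMap_injective _ _).mpr fun a b hab =>
    hinj (by rw [← hval, ← hval, hab])
  haveI : IsFractionRing F[X] K' := by
    refine IsFractionRing.of_field _ _ fun z => ?_
    obtain ⟨r, s, hrs⟩ := IntermediateField.mem_adjoin_simple_iff F (z : L) |>.mp z.2
    refine ⟨r, s, Subtype.ext ?_⟩
    rw [hrs]
    push_cast
    rw [hval, hval]
    rfl
  exact (IsFractionRing.finrank_eq F[X] K' (integralClosure F[X] L) L).symm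

/-- The elements of `L` integral over `F[t]` are free over `F[t]` of rank `[L : F(t)]`. -/
theorem exists_basis [Algebra.EssFiniteType F L] (htr : Algebra.trdeg F L = 1) (t : L)
    (ht : Transcendental F t) (n : ℕ) (hn : Module.finrank (IntermediateField.adjoin F {t}) L = n) :
    ∃ u : Fin n → L,
      (∀ x : L, (Algebra.adjoin F {t}).toSubring.subtype.IsIntegralElem x ↔
        ∃ c : Fin n → L, (∀ i, c i ∈ (Algebra.adjoin F {t}).toSubring) ∧ x = ∑ i, c i * u i) ∧
      ∀ c : Fin n → L, (∀ i, c i ∈ (Algebra.adjoin F {t}).toSubring) →
        ∑ i, c i * u i = 0 → c = 0 := by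
  letI : Algebra F[X] L := (aeval t).toAlgebra
  haveI : IsScalarTower F F[X] L := IsScalarTower.of_algebraMap_eq fun x => by
    rw [RingHom.algebraMap_toAlgebra]
    simp
  have hinj : Function.Injective (algebraMap F[X] L) := transcendental_iff_injective.mp ht
  haveI : FaithfulSMul F[X] L := (faithfulSMul_iff_algebraMap_injective _ _).mpr hinj
  haveI : Algebra.IsAlgebraic F[X] L := isAlgebraic_polynomial htr t ht
  haveI : Module.Finite F[X] (integralClosure F[X] L) :=
    PolyIntClosure.finite_integralClosure_polynomial F L
  haveI : Module.IsTorsionFree F[X] (integralClosure F[X] L) := inferInstance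
  haveI : Module.Free F[X] (integralClosure F[X] L) := Module.free_of_finite_type_torsion_free'
  have hrank : Module.finrank F[X] (integralClosure F[X] L) = n := by
    rw [finrank_integralClosure htr t ht, hn]
  let b : Module.Basis (Fin n) F[X] (integralClosure F[X] L) :=
    Module.finBasisOfFinrankEq F[X] (integralClosure F[X] L) hrank
  have hmem : ∀ y : L, y ∈ (Algebra.adjoin F {t}).toSubring ↔ ∃ q : F[X], algebraMap F[X] L q = y := by
    intro y
    rw [Subalgebra.mem_toSubring, Algebra.adjoin_singleton_eq_range_aeval]
    rfl
  have hr : (algebraMap F[X] L).range = (Algebra.adjoin F {t}).toSubring.subtype.range := by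
    rw [Subring.range_subtype]
    ext y
    rw [hmem]
    rfl
  have hint : ∀ x : L, (Algebra.adjoin F {t}).toSubring.subtype.IsIntegralElem x ↔
      x ∈ integralClosure F[X] L := fun x =>
    ⟨NormChart.isIntegralElem_of_range_le _ _ hr.ge, NormChart.isIntegralElem_of_range_le _ _ hr.le⟩
  have hsum : ∀ q : Fin n → F[X], ((∑ i, q i • b i : integralClosure F[X] L) : L) =
      ∑ i, algebraMap F[X] L (q i) * (b i : L) := by
    intro q
    rw [AddSubmonoidClass.coe_finsetSum]
    refine Finset.sum_congr rfl fun i _ => ?_
    rw [← Algebra.smul_def]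
    rfl
  refine ⟨fun i => (b i : L), fun x => ?_, fun c hc hs => ?_⟩
  · rw [hint]
    constructor
    · intro hx
      refine ⟨fun i => algebraMap F[X] L (b.repr ⟨x, hx⟩ i), fun i => (hmem _).mpr ⟨_, rfl⟩, ?_⟩
      rw [← hsum, b.sum_repr]
    · rintro ⟨c, hc, rfl⟩
      choose q hq using fun i => (hmem _).mp (hc i)
      obtain rfl : c = fun i => algebraMap F[X] L (q i) := by
        ext i
        exact (hq i).symm
      rw [← hsum]
      exact Subtype.property _
  · choose q hq using fun i => (hmem _).mp (hc i)
    obtain rfl : c = fun i => algebraMap F[X] L (q i) := by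
      ext i
      exact (hq i).symm
    rw [← hsum] at hs
    have h0 : ∑ i, q i • b i = 0 := Subtype.ext hs
    have h1 := Fintype.linearIndependent_iff.mp b.linearIndependent q h0
    ext i
    simp [h1 i]

end K722.AdjBasis
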